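import Groth.Agent.InvMod.Local
import Groth.Agent.QCoh.CechLoc
import Groth.Agent.QCoh.LocFree
import Groth.Agent.ZeroSchX.Basic
import Groth.Agent.H23.DblAlg
import Groth.Agent.H23.SeesawGlobal

/-!
# Invertible modules on an affine scheme with trivial Picard group of the ring
-/

set_option autoImplicit false
set_option linter.style.haveILetI false
set_option backward.isDefEq.respectTransparency false
set_option backward.isDefEq.respectTransparency.types false

universe u

open CategoryTheory CategoryTheory.Limits AlgebraicGeometry TopologicalSpace Opposite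

noncomputable section

namespace Groth.Agent.PicA1

open Groth.Agent Groth.Agent.AModX

/-- Sections of an invertible module over an affine scheme form an invertible module. -/
theorem invertible_sections {X : Scheme.{u}} [IsAffine X] {L : X.Modules} (hL : PicF.IsInvertible L) :
    Module.Invertible Γ(X, ⊤) Γ(L, ⊤) := by
  have hV : IsAffineOpen (⊤ : X.Opens) := isAffineOpen_top X
  let S : Set Γ(X, ⊤) := {f | ∃ e : Γ(L, X.basicOpen f), InvX.IsFrame e}
  have hS : Ideal.span S = ⊤ := by
    rw [← hV.self_le_iSup_basicOpen_iff]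
    intro x _
    obtain ⟨U, hxU, e, he⟩ := InvX.exists_frame hL x
    obtain ⟨f, hfU, hxf⟩ := hV.exists_basicOpen_le (V := U) ⟨x, hxU⟩ trivial
    exact Opens.mem_iSup.2 ⟨⟨f, _, he.res hfU⟩, hxf⟩
  refine InvMod.invertible_of_locally_free S hS fun f ⟨e, he⟩ => ?_
  let ρ : Γ(X, ⊤) →+* Γ(X, X.basicOpen f) := resR (le_top : X.basicOpen f ≤ ⊤)
  letI := ρ.toAlgebra
  haveI : IsLocalization.Away f Γ(X, X.basicOpen f) := hV.isLocalization_basicOpen f
  have hbij : Function.Bijective fun r : Γ(X, X.basicOpen f) => r • e := by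
    have := he _ le_rfl
    simp only [AModX.res_self] at this
    exact this
  let φ := LinearEquiv.ofBijective (LinearMap.toSpanSingleton Γ(X, X.basicOpen f) Γ(L, X.basicOpen f) e) hbij
  let h' : Γ(L, ⊤) →ₗ[Γ(X, ⊤)] Γ(X, X.basicOpen f) :=
    { toFun := fun x => φ.symm (res L le_top x)
      map_add' := fun x y => by rw [map_add, map_add]
      map_smul' := fun a x => by
        rw [res_smul, map_smul]
        rfl }
  have hloc : (∀ y : Γ(L, X.basicOpen f), ∃ (x : Γ(L, ⊤)) (s : Submonoid.powers f),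
        ρ s • y = res L le_top x) ∧
      ∀ x x' : Γ(L, ⊤), res L (le_top : X.basicOpen f ≤ ⊤) x = res L le_top x' →
        ∃ s : Submonoid.powers f, (s : Γ(X, ⊤)) • x = (s : Γ(X, ⊤)) • x' := by
    let sm : Γ(X, ⊤) → Γ(L, ⊤) → Γ(L, ⊤) := fun a x => a • x
    have ksm : ∀ a x, sm a x = resR (le_refl (⊤ : X.Opens)) a • x := fun a x => by rw [resR_self]
    letI i1 := QCoh.secModule (QCoh.idTop X) L ⊤
    letI i2 := QCoh.secModule (QCoh.idTop X) L (X.basicOpen f)
    let g : @LinearMap Γ(X, ⊤) Γ(X, ⊤) _ _ (RingHom.id _) Γ(L, ⊤) Γ(L, X.basicOpen f) _ _ i1 i2 :=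
      { toFun := fun x => res L le_top x
        map_add' := map_add _
        map_smul' := fun a x => by
          rw [QCoh.secModule_id_smul, QCoh.secModule_id_smul, res_smul]
          exact congrArg (· • _) (resR_resR (le_refl ⊤) le_top a) }
    haveI := QCoh.isLocalizedModule_res (ZeroSchX.isQCoh_inv hL) (V := ⊤) hV.isCompact hV.isQuasiSeparated f
      (W := X.basicOpen f) (by simp) g fun x => rfl
    refine ⟨fun y => ?_, fun x x' hxx => ?_⟩
    · obtain ⟨⟨x, s⟩, hs⟩ := IsLocalizedModule.surj (Submonoid.powers f) g y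
      exact ⟨x, s, hs⟩
    · obtain ⟨s, hs⟩ := IsLocalizedModule.exists_of_eq (S := Submonoid.powers f) (f := g) hxx
      refine ⟨s, ?_⟩
      show sm _ x = sm _ x'
      rw [ksm, ksm]
      exact hs
  haveI : IsLocalizedModule (Submonoid.powers f) h' := by
    refine ⟨fun s => ?_, fun y => ?_, fun {x x'} hxx => ?_⟩
    · rw [Module.End.isUnit_iff]
      have hu : IsUnit (ρ (s : Γ(X, ⊤))) := IsLocalization.map_units Γ(X, X.basicOpen f) s
      exact ⟨fun p q hpq => hu.mul_left_cancel hpq, fun q => by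
        obtain ⟨w, hw⟩ := hu
        refine ⟨↑w⁻¹ * q, ?_⟩
        show ρ (s : Γ(X, ⊤)) * (↑w⁻¹ * q) = q
        rw [← hw, ← mul_assoc, Units.mul_inv, one_mul]⟩
    · obtain ⟨x, s, hs⟩ := hloc.1 (φ y)
      refine ⟨⟨x, s⟩, ?_⟩
      show ρ (s : Γ(X, ⊤)) * y = φ.symm (res L le_top x)
      rw [← hs, map_smul, φ.symm_apply_apply]
      rfl
    · exact hloc.2 x x' (φ.symm.injective hxx)
  let eL : LocalizedModule.Away f Γ(L, ⊤) ≃ₗ[Γ(X, ⊤)] Localization.Away f :=
    (IsLocalizedModule.iso (Submonoid.powers f) h').trans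
      (IsLocalization.algEquiv (Submonoid.powers f) Γ(X, X.basicOpen f) (Localization.Away f)).toLinearEquiv
  exact ⟨eL.extendScalarsOfIsLocalization (Submonoid.powers f) (Localization.Away f)⟩

/-- With trivial Picard group, an invertible module has a global frame. -/
theorem exists_frame_top {X : Scheme.{u}} [IsAffine X] (hP : Subsingleton (CommRing.Pic Γ(X, ⊤)))
    {L : X.Modules} (hL : PicF.IsInvertible L) : ∃ t : Γ(L, ⊤), InvX.IsFrame t := by
  haveI := invertible_sections hL
  haveI := hP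
  obtain ⟨φ⟩ := Module.Invertible.free_iff_linearEquiv.1 (inferInstance : Module.Free Γ(X, ⊤) Γ(L, ⊤))
  obtain ⟨ε⟩ := QCoh.exists_free_restrict (ZeroSchX.isQCoh_inv hL) (isAffineOpen_top X) (n := 1)
    (φ.trans (Finsupp.uniqueLinearEquiv Γ(X, ⊤) Γ(X, ⊤) (default : ULift.{u} (Fin 1))).symm)
  obtain ⟨t, ht⟩ := H23.SeesawGlobal.exists_frame_of_triv (⊤ : X.Opens).ι
    ⟨((Scheme.Modules.restrictFunctorIsoPullback (⊤ : X.Opens).ι).app L).symm ≪≫ ε ≪≫ H23.DblAlg.freeOneIso _⟩
  exact ⟨res L (by rw [Scheme.Opens.opensRange_ι]) t, ht.res _⟩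

theorem subsingleton_pic_of_ringEquiv {A B : Type u} [CommRing A] [CommRing B] (e : A ≃+* B)
    [Subsingleton (CommRing.Pic A)] : Subsingleton (CommRing.Pic B) := by
  refine subsingleton_of_forall_eq 1 fun x => ?_
  have h : CommRing.Pic.mapRingHom (e : A →+* B) (CommRing.Pic.mapRingHom (e.symm : B →+* A) x) = x := by
    rw [CommRing.Pic.mapRingHom_mapRingHom, show (e : A →+* B).comp (e.symm : B →+* A) = RingHom.id B from
      RingHom.ext fun b => e.apply_symm_apply b, CommRing.Pic.mapRingHom_id]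
    rfl
  rw [← h, Subsingleton.elim (CommRing.Pic.mapRingHom (e.symm : B →+* A) x) 1, map_one]

end Groth.Agent.PicA1
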