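import Groth.Agent.H1PicInv.Seminormal
import Groth.Agent.H1PicInv.Rank1
import Groth.Agent.HTopAwn.Props
import Mathlib

/-!
# Invertible modules over `R[X]`, `R` seminormal local, are free
-/

set_option autoImplicit false
set_option linter.style.haveILetI false

universe u v

open Polynomial IsLocalRing TensorProduct

namespace Groth.Agent.PicA1

/-- Seminormality passes to localisations. -/
theorem seminormal_localization {A : Type u} [CommRing A] (S : Submonoid A) (B : Type u) [CommRing B]
    [Algebra A B] [IsLocalization S B] (h : HTop.IsSeminormalRing A) : HTop.IsSeminormalRing B := by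
  haveI := HTopAwn.isReduced_of_seminormal h
  haveI : IsReduced B := isReduced_localizationPreserves S B inferInstance
  intro x y hxy
  obtain ⟨⟨a, s⟩, ha⟩ := IsLocalization.surj S x
  obtain ⟨⟨b, t⟩, hb⟩ := IsLocalization.surj S y
  simp only at ha hb
  set c := algebraMap A B
  have h1 : c ((a * (t : A) * ((s : A) * t)) ^ 3) = c ((b * (s : A) * ((s : A) * t) ^ 2) ^ 2) := by
    simp only [map_pow, map_mul, ← ha, ← hb]
    linear_combination (c s) ^ 6 * (c t) ^ 6 * hxy
  obtain ⟨w, hw⟩ := (IsLocalization.eq_iff_exists S B).1 h1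
  obtain ⟨z, ⟨hz2, hz3⟩, -⟩ := h (a * t * (s * t) * (w : A) ^ 2) (b * s * (s * t) ^ 2 * (w : A) ^ 3) (by
    linear_combination (w : A) ^ 5 * hw)
  obtain ⟨u, hu⟩ := IsLocalization.map_units B (s * t * w)
  have e2 : x = (c z * ↑u⁻¹) ^ 2 := by
    have : x * (u : B) ^ 2 = c z ^ 2 := by
      rw [hu, ← map_pow c z, ← hz2]
      simp only [Submonoid.coe_mul, map_mul, map_pow, ← ha]
      ring
    rw [mul_pow, ← this, mul_assoc, ← mul_pow, Units.mul_inv, one_pow, mul_one]
  have e3 : y = (c z * ↑u⁻¹) ^ 3 := by
    have : y * (u : B) ^ 3 = c z ^ 3 := by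
      rw [hu, ← map_pow c z, ← hz3]
      simp only [Submonoid.coe_mul, map_mul, map_pow, ← hb]
      ring
    rw [mul_pow, ← this, mul_assoc, ← mul_pow, Units.mul_inv, one_pow, mul_one]
  exact ⟨_, ⟨e2, e3⟩, fun q hq => HTopAwn.eq_of_sq_cube (hq.1.symm.trans e2) (hq.2.symm.trans e3)⟩

variable {R : Type u} [CommRing R] [IsLocalRing R]

theorem exists_dual_unit (M : Type u) [AddCommGroup M] [Module R[X] M] [Module.Invertible R[X] M] :
    ∃ (φ : Module.Dual R[X] M) (y : M), IsUnit ((φ y).coeff 0) := by
  let q : R[X] →+* (ResidueField R)[X] := Polynomial.mapRingHom (residue R)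
  letI := q.toAlgebra
  have hqs : Function.Surjective q := Polynomial.map_surjective _ residue_surjective
  have : Module.Free (ResidueField R)[X] ((ResidueField R)[X] ⊗[R[X]] M) :=
    Module.free_of_finite_type_torsion_free'
  obtain ⟨g⟩ := Module.Invertible.free_iff_linearEquiv.1 this
  let f : M →ₗ[R[X]] (ResidueField R)[X] :=
    (g.toLinearMap.restrictScalars R[X]) ∘ₗ TensorProduct.mk R[X] (ResidueField R)[X] M 1
  obtain ⟨φ, hφ⟩ := Module.projective_lifting_property (Algebra.linearMap R[X] (ResidueField R)[X]) f hqs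
  obtain ⟨y, hy⟩ := TensorProduct.mk_surjective R[X] M (ResidueField R)[X] hqs (g.symm 1)
  refine ⟨φ, y, ?_⟩
  have h1 : q (φ y) = 1 := by
    have := LinearMap.congr_fun hφ y
    simp only [LinearMap.comp_apply, Algebra.linearMap_apply, f, LinearMap.coe_restrictScalars,
      LinearEquiv.coe_coe] at this
    rw [show q (φ y) = _ from this, hy, g.apply_symm_apply]
  have := congrArg (fun p => p.coeff 0) h1
  simp only [q, Polynomial.coe_mapRingHom, Polynomial.coeff_map, Polynomial.coeff_one_zero] at this
  by_contra hu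
  rw [← mem_nonunits_iff, ← IsLocalRing.mem_maximalIdeal, ← residue_eq_zero_iff, this] at hu
  exact one_ne_zero hu

/-- Invertible modules over `R[X]` for seminormal local `R` are free. -/
theorem free_polynomial (hR : HTop.IsSeminormalRing R) (M : Type u) [AddCommGroup M] [Module R[X] M]
    [Module.Invertible R[X] M] : Module.Free R[X] M := by
  obtain ⟨φ, y, hQ0⟩ := exists_dual_unit (R := R) M
  have hreg : ∀ r : R[X], φ y * r = 0 → r = 0 := H1PicInv.regular_of_coeff_zero hQ0
  have hinj : Function.Injective φ := H1PicInv.injective_of_regular φ y hreg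
  let J : Ideal R[X] := LinearMap.range φ
  let eJ : M ≃ₗ[R[X]] J := LinearEquiv.ofInjective φ hinj
  have : Module.Invertible R[X] J := Module.Invertible.congr eJ
  obtain ⟨J', -, hJJ⟩ := H1PicInv.exists_mul_eq_span J (φ y) ⟨y, rfl⟩
  obtain ⟨f, hf0, hf⟩ := H1PicInv.exists_eq_span hR J J' (φ y) hQ0 hJJ
  have hfJ : f ∈ J := by rw [hf]; exact Ideal.mem_span_singleton_self f
  have : Module.Free R[X] J := by
    refine Module.Free.of_equiv (LinearEquiv.ofBijective (LinearMap.toSpanSingleton R[X] J ⟨f, hfJ⟩) ⟨?_, ?_⟩)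
    · rw [injective_iff_map_eq_zero]
      intro c hc
      refine H1PicInv.regular_of_coeff_zero (f := f) (by rw [hf0]; exact isUnit_one) c ?_
      have := congrArg Subtype.val hc
      simpa [mul_comm] using this
    · intro x
      obtain ⟨c, hc⟩ := Ideal.mem_span_singleton'.1 (hf.le x.2)
      exact ⟨c, Subtype.ext (by simpa using hc)⟩
  exact Module.Free.of_equiv eJ.symm

end Groth.Agent.PicA1
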