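import Groth.Agent.PicSpread.Desc
import Groth.Agent.InvX.Tensor

/-!
# A frame on a localisation spreads to a basic open
-/

set_option autoImplicit false
set_option linter.style.haveILetI false
set_option backward.isDefEq.respectTransparency false
set_option backward.isDefEq.respectTransparency.types false

universe u

open CategoryTheory CategoryTheory.Limits AlgebraicGeometry TopologicalSpace Opposite

noncomputable section

namespace Groth.Agent.PicA1

open Groth.Agent Groth.Agent.AModX Groth.Agent.PicSpread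

variable {X Y : Scheme.{u}} {j : Y ⟶ X} {Z : X.Opens} (D : LocData j Z)

include D in
/-- A trivialisation over the localisation comes from one over a basic open. -/
theorem exists_frame_of_loc {L : X.Modules} (hL : PicF.IsInvertible L)
    (t : Γ((Scheme.Modules.pullback j).obj L, ⊤)) (ht : InvX.IsFrame t) :
    ∃ m ∈ D.M, ∃ s : Γ(L, X.basicOpen m), InvX.IsFrame s := by
  classical
  -- a finite affine cover by opens with frames
  have hloc : ∀ x : Z, ∃ W : X.Opens, IsAffineOpen W ∧ W ≤ Z ∧ x.1 ∈ W ∧ ∃ e : Γ(L, W), InvX.IsFrame e :=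
    fun x => by
      obtain ⟨U, hxU, e, he⟩ := InvX.exists_frame hL x.1
      obtain ⟨_, ⟨W, hW, rfl⟩, hxW, hWU⟩ :=
        X.isBasis_affineOpens.exists_subset_of_mem_open (show x.1 ∈ ((U ⊓ Z : X.Opens) : Set X) from ⟨hxU, x.2⟩) (U ⊓ Z).2
      exact ⟨W, hW, fun z hz => (hWU hz).2, hxW, _, he.res (fun z hz => (hWU hz).1)⟩
  choose W hW hWZ hxW e he using hloc
  obtain ⟨T, hT⟩ := D.compact.elim_finite_subcover (fun x => (W x : Set X)) (fun x => (W x).2)
    fun x hx => Set.mem_iUnion.2 ⟨⟨x, hx⟩, hxW ⟨x, hx⟩⟩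
  -- coordinates
  have hu : ∀ a : T, ∃ u : (Γ(Y, j ⁻¹ᵁ W a))ˣ,
      res _ le_top t = (u : Γ(Y, j ⁻¹ᵁ W a)) • InvX.pullElt j (e a) := fun a => by
    have hp := InvX.isFrame_pullElt j (he a)
    obtain ⟨g, hg⟩ := hp.exists_coord le_rfl (res _ le_top t)
    rw [res_self] at hg
    obtain ⟨g', hg'⟩ := (ht.res (le_top : j ⁻¹ᵁ W a ≤ ⊤)).exists_coord le_rfl (InvX.pullElt j (e a))
    rw [res_self] at hg'
    have h1 : g * g' = 1 := hp.coord_unique le_rfl (by rw [res_self, one_smul, mul_comm, mul_smul, ← hg, ← hg'])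
    exact ⟨⟨g, g', h1, by rw [mul_comm]; exact h1⟩, hg⟩
  choose u hu using hu
  choose m hm hv using fun a : T => exists_unit D (hW a) (hWZ a) (u a)
  let μ : Γ(X, Z) := ∏ a : T, m a
  have hμ : μ ∈ D.M := Submonoid.prod_mem _ fun a _ => hm a
  have hμle : ∀ a : T, X.basicOpen μ ≤ X.basicOpen (m a) := fun a => by
    show X.basicOpen (∏ a : T, m a) ≤ _
    rw [← Finset.mul_prod_erase _ _ (Finset.mem_univ a), Scheme.basicOpen_mul]
    exact inf_le_left
  let B : T → X.Opens := fun a => W a ⊓ X.basicOpen μ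
  choose v hvj using fun a : T => hv a (B a) inf_le_left (inf_le_right.trans (hμle a))
  obtain ⟨s, hs, hsp⟩ : ∃ s : ∀ a : T, Γ(L, B a), (∀ a, InvX.IsFrame (s a)) ∧
      ∀ a, InvX.pullElt j (s a) = res _ le_top t := by
    refine ⟨fun a => (v a : Γ(X, B a)) • res L inf_le_left (e a),
      fun a => ((he a).res inf_le_left).isUnit_smul (v a).isUnit, fun a => ?_⟩
    rw [InvX.pullElt_smul, hvj, ← InvX.res_pullElt, ← res_smul, ← hu, res_res]
  have hBa : ∀ a, IsAffineOpen (B a) := fun a => by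
    show IsAffineOpen (W a ⊓ X.basicOpen μ)
    rw [← basicOpen_resR D (hWZ a) μ]
    exact (hW a).basicOpen _
  have hBZ : ∀ a, B a ≤ Z := fun a => inf_le_left.trans (hWZ a)
  have hagree : ∀ a b : T, ∃ n ∈ D.M, ∀ (V : X.Opens) (ha : V ≤ B a) (hb : V ≤ B b), V ≤ X.basicOpen n →
      res L ha (s a) = res L hb (s b) := by
    intro a b
    have haf := D.inf (hBa a) (hBa b) (hBZ a) (hBZ b)
    obtain ⟨c, hc⟩ := (hs b).exists_coord (inf_le_right : B a ⊓ B b ≤ _) (res L inf_le_left (s a))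
    have h1 : j.app (B a ⊓ B b) c = j.app (B a ⊓ B b) 1 := by
      refine (InvX.isFrame_pullElt j (hs b)).coord_unique (j.preimage_mono inf_le_right) ?_
      rw [InvX.res_pullElt j (inf_le_right : B a ⊓ B b ≤ B b), ← InvX.pullElt_smul, ← InvX.pullElt_smul, one_smul, ← hc, ← InvX.res_pullElt,
        ← InvX.res_pullElt, hsp, hsp, res_res, res_res]
    obtain ⟨n, hn, hn'⟩ := exists_of_eq D haf (inf_le_left.trans (hBZ a)) h1
    refine ⟨n, hn, fun V ha hb hVn => ?_⟩
    have hV : V ≤ B a ⊓ B b := le_inf ha hb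
    have e1 := congrArg (res L hV) hc
    rw [res_smul, res_res, res_res] at e1
    have e2 := congrArg (resR hV) hn'
    rw [map_mul, map_mul, resR_resR, map_one, mul_one] at e2
    have e3 := (isUnit_resR _ n hVn).mul_left_cancel (e2.trans (mul_one _).symm)
    rw [e1, e3, one_smul]
  choose n hn hn' using hagree
  let ν : Γ(X, Z) := μ * ∏ a : T, ∏ b : T, n a b
  have hν : ν ∈ D.M := D.M.mul_mem hμ (Submonoid.prod_mem _ fun a _ => Submonoid.prod_mem _ fun b _ => hn a b)
  have hνμ : X.basicOpen ν ≤ X.basicOpen μ := by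
    show X.basicOpen (μ * _) ≤ _
    rw [Scheme.basicOpen_mul]; exact inf_le_left
  have hνn : ∀ a b : T, X.basicOpen ν ≤ X.basicOpen (n a b) := by
    intro a b
    show X.basicOpen (μ * ∏ a : T, ∏ b : T, n a b) ≤ _
    rw [← Finset.mul_prod_erase _ _ (Finset.mem_univ a), ← Finset.mul_prod_erase _ _ (Finset.mem_univ b)]
    simp only [Scheme.basicOpen_mul]
    exact inf_le_right.trans (inf_le_left.trans inf_le_left)
  let C : T → X.Opens := fun a => W a ⊓ X.basicOpen ν
  have hC : ∀ a, C a ≤ B a := fun a => inf_le_inf_left _ hνμ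
  have hcov : ∀ x ∈ X.basicOpen ν, ∃ a : T, x ∈ C a := fun x hx => by
    obtain ⟨a, ha, hxa⟩ := Set.mem_iUnion₂.1 (hT (X.basicOpen_le ν hx))
    exact ⟨⟨a, ha⟩, hxa, hx⟩
  obtain ⟨σ, hσ, -⟩ := existsUnique_glue (M := L) C (fun a => inf_le_right) hcov
    (fun a => res L (hC a) (s a)) fun a b => by
      rw [res_res, res_res]
      exact hn' a b _ _ _ ((inf_le_left.trans inf_le_right).trans (hνn a b))
  refine ⟨ν, hν, σ, InvX.isFrame_of_germ fun x hx => ?_⟩
  obtain ⟨a, ha⟩ := hcov x hx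
  have hF : InvX.IsFrame (res L (inf_le_right : C a ≤ X.basicOpen ν) σ) := (hσ a) ▸ (hs a).res (hC a)
  have := hF.germ_bijective ha
  rwa [InvX.germ_res'] at this

end Groth.Agent.PicA1
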