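import Groth.Agent.PicA1.Frame
import Groth.Agent.PicSpread.Loc
import Groth.Agent.TwistX.PConePull
import Groth.Agent.WDivX.AffineHom
import Groth.Agent.H23.SeesawGlobal
import Groth.Agent.PicClLib.Basic

/-!
# Rigidity of invertible modules on affine space over a reduced scheme
-/

set_option autoImplicit false
set_option linter.style.haveILetI false
set_option backward.isDefEq.respectTransparency false
set_option backward.isDefEq.respectTransparency.types false

universe u

open CategoryTheory CategoryTheory.Limits AlgebraicGeometry TopologicalSpace Opposite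

noncomputable section

namespace Groth.Agent.PicA1

open Groth.Agent Groth.Agent.AModX

/-- An invertible module trivial locally on the base, with rigid units, comes from the section. -/
theorem nonempty_iso_pullback_of_locally {P X : Scheme.{u}} (π : P ⟶ X) (s : X ⟶ P) (hs : s ≫ π = 𝟙 X)
    (hunit : ∀ V : X.Opens, IsAffineOpen V → ∀ g : Γ(P, π ⁻¹ᵁ V), IsUnit g →
      s.app (π ⁻¹ᵁ V) g = 1 → g = 1)
    {L : P.Modules} (hloc : ∀ x : X, ∃ U : X.Opens, x ∈ U ∧ ∃ e : Γ(L, π ⁻¹ᵁ U), InvX.IsFrame e) :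
    Nonempty (L ≅ (Scheme.Modules.pullback π).obj ((Scheme.Modules.pullback s).obj L)) := by
  have hpre : ∀ U : X.Opens, s ⁻¹ᵁ (π ⁻¹ᵁ U) = U := fun U => by
    rw [← Scheme.Hom.comp_preimage, hs, Scheme.Hom.id_preimage]
  choose U hxU e he using hloc
  obtain ⟨n, hn, hne⟩ : ∃ n : ∀ x, Γ((Scheme.Modules.pullback s).obj L, U x), (∀ x, InvX.IsFrame (n x)) ∧
      ∀ x, n x = res _ (hpre (U x)).ge (InvX.pullElt s (e x)) :=
    ⟨_, fun x => (InvX.isFrame_pullElt s (he x)).res _, fun x => rfl⟩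
  refine TwistX.nonempty_iso_of_frames (fun x : X => π ⁻¹ᵁ U x) (fun p => ⟨π p, hxU (π p)⟩) e
    (fun x => InvX.pullElt π (n x)) he (fun x => InvX.isFrame_pullElt π (hn x)) ?_
  intro a b W ha hb g hg
  -- the transition on the overlap
  let O : X.Opens := U a ⊓ U b
  obtain ⟨G, hG⟩ := (he a).exists_coord (π.preimage_mono (inf_le_left : O ≤ U a)) (res L (π.preimage_mono inf_le_right) (e b))
  obtain ⟨G', hG'⟩ := (he b).exists_coord (π.preimage_mono (inf_le_right : O ≤ U b)) (res L (π.preimage_mono inf_le_left) (e a))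
  have hGu : IsUnit G := IsUnit.of_mul_eq_one G' ((he b).coord_unique (π.preimage_mono inf_le_right) (by
    rw [one_smul, mul_smul, ← hG', ← hG]))
  let c : Γ(X, O) := resR (hpre O).ge (s.app (π ⁻¹ᵁ O) G)
  have hcn : res _ inf_le_right (n b) = c • res _ inf_le_left (n a) := by
    have h1 := congrArg (fun z => res _ (hpre O).ge (InvX.pullElt s z)) hG
    rw [InvX.pullElt_smul, ← InvX.res_pullElt, ← InvX.res_pullElt, res_smul, res_res, res_res] at h1
    rw [hne, hne, res_res, res_res]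
    exact h1
  have hcu : IsUnit c := (hGu.map _).map _
  have key : G = π.app O c := by
    obtain ⟨w, hw⟩ := hcu.map (π.app O).hom
    suffices h : G * ↑w⁻¹ = 1 by
      calc G = G * ↑w⁻¹ * w := by rw [mul_assoc, Units.inv_mul, mul_one]
        _ = _ := by rw [h, one_mul, hw]
    refine TopCat.Presheaf.section_ext P.sheaf _ _ _ fun p hp => ?_
    obtain ⟨_, ⟨V, hV, rfl⟩, hpV, hVO⟩ := X.isBasis_affineOpens.exists_subset_of_mem_open hp O.2
    have h1 : resR (π.preimage_mono hVO) (G * ↑w⁻¹) = 1 := by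
      refine hunit V hV _ ((hGu.mul w⁻¹.isUnit).map _) ?_
      have e0 : s.app (π ⁻¹ᵁ O) (π.app O c) = s.app (π ⁻¹ᵁ O) G := by
        have h2 : ∀ z : Γ(X, O), s.app (π ⁻¹ᵁ O) (π.app O z) = resR (hpre O).le z := fun z => by
          have := congrArg (fun k => k.hom z) (Scheme.Hom.comp_app s π O).symm
          refine this.trans ?_
          rw [Scheme.Hom.congr_app hs O]
          simp only [Scheme.Hom.id_app, Category.id_comp]
          rfl
        rw [h2, resR_resR, resR_self]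
      rw [PicSpread.app_res', map_mul]
      have e1 : s.app (π ⁻¹ᵁ O) G * s.app (π ⁻¹ᵁ O) ↑w⁻¹ = 1 := by
        rw [← e0, show π.app O c = (w : Γ(P, π ⁻¹ᵁ O)) from hw.symm, ← map_mul, Units.mul_inv, map_one]
      rw [e1, map_one]
    show P.presheaf.germ _ p hp _ = P.presheaf.germ _ p hp 1
    rw [← P.presheaf.germ_res_apply (homOfLE (π.preimage_mono hVO)) p hpV, show
      P.presheaf.map (homOfLE (π.preimage_mono hVO)).op (G * ↑w⁻¹) = 1 from h1, map_one, map_one]
  have hW : W ≤ π ⁻¹ᵁ O := fun p hp => ⟨ha hp, hb hp⟩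
  have hg' : g = resR hW G := (he a).coord_unique ha (by
    have := congrArg (res L hW) hG
    rw [res_smul, res_res, res_res] at this
    exact hg.symm.trans this)
  have h3 := congrArg (fun z => res _ hW (InvX.pullElt π z)) hcn
  rw [InvX.pullElt_smul, ← InvX.res_pullElt, ← InvX.res_pullElt, res_smul, res_res, res_res] at h3
  rw [hg', key]
  exact h3

variable (σ : Type u) (X : Scheme.{u})

/-- The zero section. -/
def sec : X ⟶ 𝔸(σ; X) := AffineSpace.homOfVector (𝟙 X) 0

theorem sec_over : sec σ X ≫ (𝔸(σ; X) ↘ X) = 𝟙 X := AffineSpace.homOfVector_over _ _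

/-- Units on affine space over a reduced affine open are constant. -/
theorem unit_eq_one [IsReduced X] {V : X.Opens} (hV : IsAffineOpen V)
    (g : Γ(𝔸(σ; X), (𝔸(σ; X) ↘ X) ⁻¹ᵁ V)) (hg : IsUnit g)
    (h1 : (sec σ X).app ((𝔸(σ; X) ↘ X) ⁻¹ᵁ V) g = 1) : g = 1 := by
  let π := 𝔸(σ; X) ↘ X
  haveI := hV.isOpenImmersion_fromSpec
  have hpb := AffineSpace.isPullback_map (n := σ) hV.fromSpec
  haveI : IsOpenImmersion (AffineSpace.map σ hV.fromSpec) :=
    MorphismProperty.of_isPullback (P := @IsOpenImmersion) hpb.flip inferInstance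
  let A := Γ(X, V)
  let B := CommRingCat.of (MvPolynomial σ A)
  let J : Spec B ⟶ 𝔸(σ; X) := (AffineSpace.SpecIso σ A).inv ≫ AffineSpace.map σ hV.fromSpec
  have hJπ : J ≫ π = Spec.map (CommRingCat.ofHom MvPolynomial.C) ≫ hV.fromSpec := by
    show (_ ≫ _) ≫ _ = _
    rw [Category.assoc, AffineSpace.map_over, AffineSpace.SpecIso_inv_over_assoc]
  have hrange : J.opensRange = π ⁻¹ᵁ V := by
    apply Opens.ext
    show Set.range ((AffineSpace.SpecIso σ A).inv ≫ AffineSpace.map σ hV.fromSpec) = π ⁻¹' V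
    rw [← hV.range_fromSpec, ← hpb.isoPullback_hom_fst, ← Category.assoc, Scheme.Hom.comp_base, TopCat.coe_comp,
      Set.range_comp, Set.range_eq_univ.mpr (Scheme.Hom.surjective _), Set.image_univ, Scheme.Pullback.range_fst]
  have hle : (⊤ : (Spec B).Opens) ≤ J ⁻¹ᵁ (π ⁻¹ᵁ V) := fun z _ => hrange.le ⟨z, rfl⟩
  -- the section in coordinates
  have hsub : Set.range (hV.fromSpec ≫ sec σ X) ⊆ Set.range J := by
    rintro _ ⟨z, rfl⟩
    have : (hV.fromSpec ≫ sec σ X) z ∈ π ⁻¹ᵁ V := by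
      show π ((hV.fromSpec ≫ sec σ X) z) ∈ V
      rw [← Scheme.Hom.comp_apply, Category.assoc, sec_over, Category.comp_id, ← SetLike.mem_coe, ← hV.range_fromSpec]
      exact ⟨z, rfl⟩
    exact hrange.ge this
  let s' := IsOpenImmersion.lift J (hV.fromSpec ≫ sec σ X) hsub
  have hs' : s' ≫ J = hV.fromSpec ≫ sec σ X := IsOpenImmersion.lift_fac _ _ _
  have hs'C : s' ≫ Spec.map (CommRingCat.ofHom MvPolynomial.C) = 𝟙 _ := by
    rw [← cancel_mono hV.fromSpec, Category.assoc, ← hJπ, reassoc_of% hs', sec_over, Category.comp_id,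
      Category.id_comp]
  let ε := Spec.preimage s'
  have hε : Spec.map ε = s' := Spec.map_preimage s'
  have hεC : CommRingCat.ofHom MvPolynomial.C ≫ ε = 𝟙 A := by
    apply Spec.map_injective
    rw [Spec.map_comp, hε]
    exact hs'C.trans (Spec.map_id A).symm
  haveI : _root_.IsReduced A := IsReduced.component_reduced V
  let T : Γ(𝔸(σ; X), π ⁻¹ᵁ V) →+* MvPolynomial σ A :=
    (Scheme.ΓSpecIso B).hom.hom.comp (J.appLE (π ⁻¹ᵁ V) ⊤ hle).hom
  have hTinj : Function.Injective T := by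
    haveI := J.isIso_app (π ⁻¹ᵁ V) hrange.ge
    have hb : Function.Injective (J.app (π ⁻¹ᵁ V)) := ((ConcreteCategory.isIso_iff_bijective _).1 inferInstance).1
    have heq : J ⁻¹ᵁ (π ⁻¹ᵁ V) = ⊤ := top_le_iff.1 hle
    intro p q hpq
    have hpq' := ((ConcreteCategory.isIso_iff_bijective (Scheme.ΓSpecIso B).hom).1 inferInstance).1 hpq
    rw [Scheme.Hom.appLE, CommRingCat.hom_comp, RingHom.comp_apply, RingHom.comp_apply,
      show (homOfLE hle : (⊤ : (Spec B).Opens) ⟶ J ⁻¹ᵁ (π ⁻¹ᵁ V)) = eqToHom heq.symm from Subsingleton.elim _ _] at hpq'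
    exact hb (((ConcreteCategory.isIso_iff_bijective _).1 inferInstance).1 hpq')
  obtain ⟨a, ha, hTa⟩ := MvPolynomial.isUnit_iff_eq_C_of_isReduced.1 (hg.map T)
  have he1 : ε (T g) = 1 := by
    have k : (J.appLE (π ⁻¹ᵁ V) ⊤ hle) ≫ s'.appTop =
        (sec σ X).app (π ⁻¹ᵁ V) ≫ hV.fromSpec.appLE ((sec σ X) ⁻¹ᵁ (π ⁻¹ᵁ V)) ⊤ (fun z _ => by
          show (sec σ X) (hV.fromSpec z) ∈ π ⁻¹ᵁ V
          rw [← Scheme.Hom.comp_apply, ← hs', Scheme.Hom.comp_apply]
          exact hle trivial) := by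
      rw [Scheme.Hom.app_eq_appLE, Scheme.Hom.appLE_comp_appLE, show s'.appTop = s'.appLE ⊤ ⊤ le_top by
        rw [Scheme.Hom.appTop, Scheme.Hom.app_eq_appLE]; rfl, Scheme.Hom.appLE_comp_appLE]
      simp only [hs']
    have hn := Scheme.ΓSpecIso_naturality ε
    rw [hε] at hn
    have e := congrArg (fun φ => φ.hom (J.appLE (π ⁻¹ᵁ V) ⊤ hle g)) hn
    refine e.symm.trans ?_
    show (Scheme.ΓSpecIso A).hom (s'.appTop (J.appLE (π ⁻¹ᵁ V) ⊤ hle g)) = 1
    rw [show s'.appTop (J.appLE (π ⁻¹ᵁ V) ⊤ hle g) = _ from congrArg (fun φ => φ.hom g) k]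
    simp only [CommRingCat.comp_apply]
    rw [h1, map_one, map_one]
  rw [hTa] at he1
  have : a = 1 := (congrArg (fun φ => φ.hom a) hεC).symm.trans he1
  refine hTinj ?_
  rw [hTa, this, map_one, map_one]

/-- Localisation data of the affine space over an affine neighbourhood of a point. -/
def locData {U : X.Opens} (hU : IsAffineOpen U) (x : X) (hx : x ∈ U) :
    PicSpread.LocData (pullback.fst (𝔸(σ; X) ↘ X) (X.fromSpecStalk x)) ((𝔸(σ; X) ↘ X) ⁻¹ᵁ U) where
  M := (PicSpread.Mon U x hx).map ((𝔸(σ; X) ↘ X).app U).hom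
  compact := (hU.preimage (𝔸(σ; X) ↘ X)).isCompact
  top_le := fun y => by
    show (𝔸(σ; X) ↘ X) (pullback.fst (𝔸(σ; X) ↘ X) (X.fromSpecStalk x) y) ∈ U
    rw [← Scheme.Hom.comp_apply, pullback.condition, Scheme.Hom.comp_apply]
    exact PicSpread.fromSpecStalk_preimage hx trivial
  inf := fun {W W'} hW hW' h h' => by
    haveI : IsAffine _ := hU
    haveI : IsAffine _ := hW
    let π := 𝔸(σ; X) ↘ X
    let i := Scheme.homOfLE _ h
    haveI : IsSeparated π := inferInstance
    haveI : IsSeparated (π ∣_ U) := IsZariskiLocalAtTarget.restrict (inferInstanceAs (IsSeparated π)) U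
    haveI : IsAffineHom (i ≫ (π ∣_ U)) := inferInstance
    haveI : IsAffineHom i := IsAffineHom.of_comp i (π ∣_ U)
    have h1 : IsAffineOpen ((π ⁻¹ᵁ U).ι ⁻¹ᵁ W') :=
      hW'.preimage_of_isOpenImmersion _ (by rw [Scheme.Opens.opensRange_ι]; exact h')
    have h2 := (h1.preimage i).image_of_isOpenImmersion W.ι
    rwa [← Scheme.Hom.comp_preimage, Scheme.homOfLE_ι, Scheme.Hom.image_preimage_eq_opensRange_inf,
      Scheme.Opens.opensRange_ι] at h2
  affine := fun hW h => PicSpread.isAffineOpen_preimage _ x hx hU hW h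
  loc := fun {W} hW h => by
    have := PicSpread.isLocalization_preimage (𝔸(σ; X) ↘ X) x hx hU hW h
    exact (Submonoid.map_map (PicSpread.Mon U x hx) (AModX.resR h).toMonoidHom
      ((𝔸(σ; X) ↘ X).app U).hom.toMonoidHom).symm ▸ this

/-- Invertible modules on affine space over a reduced scheme, locally trivial on the base, are constant. -/
theorem nonempty_iso_pullback [IsReduced X]
    (hloc : ∀ (x : X) (L : (𝔸(σ; Spec (X.presheaf.stalk x))).Modules), PicF.IsInvertible L →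
      ∃ t : Γ(L, ⊤), InvX.IsFrame t)
    {L : (𝔸(σ; X)).Modules} (hL : PicF.IsInvertible L) :
    Nonempty (L ≅ (Scheme.Modules.pullback (𝔸(σ; X) ↘ X)).obj ((Scheme.Modules.pullback (sec σ X)).obj L)) := by
  refine nonempty_iso_pullback_of_locally _ _ (sec_over σ X) (fun V hV g hg h1 => unit_eq_one σ X hV g hg h1)
    fun x => ?_
  obtain ⟨_, ⟨U, hU, rfl⟩, hx, -⟩ := X.isBasis_affineOpens.exists_subset_of_mem_open (Set.mem_univ x) isOpen_univ
  let j := pullback.fst (𝔸(σ; X) ↘ X) (X.fromSpecStalk x)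
  let ψ := (AffineSpace.isPullback_map (n := σ) (X.fromSpecStalk x)).isoPullback
  obtain ⟨t, ht⟩ := hloc x _ (PicClLib.isInvertible_pullback ψ.hom
    (PicClLib.isInvertible_pullback j hL))
  have ht' := InvX.isFrame_pullElt ψ.inv ht
  let E : (Scheme.Modules.pullback ψ.inv).obj ((Scheme.Modules.pullback ψ.hom).obj ((Scheme.Modules.pullback j).obj L)) ≅
      (Scheme.Modules.pullback j).obj L :=
    (Scheme.Modules.pullbackComp ψ.inv ψ.hom).app _ ≪≫ (Scheme.Modules.pullbackCongr ψ.inv_hom_id).app _ ≪≫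
      (Scheme.Modules.pullbackId _).app _
  obtain ⟨_, ⟨a, ha, rfl⟩, s, hs⟩ := exists_frame_of_loc (locData σ X hU x hx) hL _
    ((ht'.map_iso E).res (le_of_eq (by simp) : (⊤ : (pullback (𝔸(σ; X) ↘ X) (X.fromSpecStalk x)).Opens) ≤ ψ.inv ⁻¹ᵁ ⊤))
  exact ⟨X.basicOpen a, PicSpread.mem_Mon.1 ha, res L (Scheme.preimage_basicOpen _ a).le s, hs.res _⟩

end Groth.Agent.PicA1
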